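import Mathlib

set_option autoImplicit false

open TensorProduct WithConv

namespace Groth.Agent.Helper7.HopfMono

variable {k : Type*} [CommRing k] {A : Type*} [CommRing A] [HopfAlgebra k A]

section Inv

variable {T : Type*} [CommRing T] [Algebra k T]

/-- right inverse in the convolution monoid of algebra maps -/
theorem mul_comp_antipode (g : A →ₐ[k] T) :
    toConv g * toConv (g.comp (HopfAlgebra.antipodeAlgHom k A)) = 1 := by
  apply WithConv.ofConv_injective
  apply AlgHom.toLinearMap_injective
  apply WithConv.toConv_injective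
  rw [AlgHom.toLinearMap_convMul, AlgHom.toLinearMap_convOne]
  have h := LinearMap.algHom_comp_convMul_distrib g (toConv LinearMap.id)
    (toConv (HopfAlgebra.antipode k (A := A)))
  rw [LinearMap.id_mul_antipode] at h
  simp only [LinearMap.comp_id] at h
  have h2 : toConv g.toLinearMap * toConv (g.toLinearMap ∘ₗ HopfAlgebra.antipode k) =
      toConv (g.toLinearMap ∘ₗ (1 : WithConv (A →ₗ[k] A)).ofConv) := by
    rw [h]
  rw [ofConv_toConv, ofConv_toConv]
  change toConv g.toLinearMap * toConv (g.toLinearMap ∘ₗ HopfAlgebra.antipode k) = 1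
  rw [h2]
  ext a
  simp

theorem comp_antipode_mul (g : A →ₐ[k] T) :
    toConv (g.comp (HopfAlgebra.antipodeAlgHom k A)) * toConv g = 1 := by
  apply WithConv.ofConv_injective
  apply AlgHom.toLinearMap_injective
  apply WithConv.toConv_injective
  rw [AlgHom.toLinearMap_convMul, AlgHom.toLinearMap_convOne]
  have h := LinearMap.algHom_comp_convMul_distrib g
    (toConv (HopfAlgebra.antipode k (A := A))) (toConv LinearMap.id)
  rw [LinearMap.antipode_mul_id] at h
  simp only [LinearMap.comp_id] at h
  have h2 : toConv (g.toLinearMap ∘ₗ HopfAlgebra.antipode k) * toConv g.toLinearMap =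
      toConv (g.toLinearMap ∘ₗ (1 : WithConv (A →ₗ[k] A)).ofConv) := by
    rw [h]
  rw [ofConv_toConv, ofConv_toConv]
  change toConv (g.toLinearMap ∘ₗ HopfAlgebra.antipode k) * toConv g.toLinearMap = 1
  rw [h2]
  ext a
  simp

end Inv

section Main

variable {B : Type*} [CommRing B] [Bialgebra k B]

theorem eq_counit_of_comp_eq_counit {T : Type*} [CommRing T] [Algebra k T] (f : B →ₐc[k] A)
    (hker : Ideal.map f (RingHom.ker (Bialgebra.counitAlgHom k B)) =
      RingHom.ker (Bialgebra.counitAlgHom k A))
    (u : A →ₐ[k] T) (hu : ∀ b : B, u (f b) = algebraMap k T (Coalgebra.counit b)) (a : A) :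
    u a = algebraMap k T (Coalgebra.counit a) := by
  have hle : RingHom.ker (Bialgebra.counitAlgHom k A) ≤ RingHom.ker u.toRingHom := by
    rw [← hker, Ideal.map_le_iff_le_comap]
    intro b hb
    rw [Ideal.mem_comap, RingHom.mem_ker]
    rw [RingHom.mem_ker] at hb
    change u (f b) = 0
    rw [hu b]
    change Coalgebra.counit b = 0 at hb
    rw [hb, map_zero]
  have hmem : a - algebraMap k A (Coalgebra.counit a) ∈
      RingHom.ker (Bialgebra.counitAlgHom k A) := by
    rw [RingHom.mem_ker, map_sub, AlgHom.commutes]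
    simp
  have h := hle hmem
  rw [RingHom.mem_ker] at h
  change u (a - _) = 0 at h
  rw [map_sub, AlgHom.commutes, sub_eq_zero] at h
  exact h

theorem surjective_of_map_ker_counit [Module.Finite k A] (f : B →ₐc[k] A)
    (hker : Ideal.map f (RingHom.ker (Bialgebra.counitAlgHom k B)) =
      RingHom.ker (Bialgebra.counitAlgHom k A)) : Function.Surjective f := by
  let _ : Algebra B A := (RingHomClass.toRingHom f).toAlgebra
  have : IsScalarTower k B A := IsScalarTower.of_algebraMap_eq (fun x => by
    change algebraMap k A x = f (algebraMap k B x)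
    exact (AlgHomClass.commutes f x).symm)
  have : Module.Finite B A := Module.Finite.of_restrictScalars_finite k B A
  change Function.Surjective (algebraMap B A)
  rw [← Algebra.isEpi_iff_surjective_algebraMap_of_finite, Algebra.isEpi_iff_forall_one_tmul_eq]
  let g₁ : A →ₐ[k] A ⊗[B] A := Algebra.TensorProduct.includeLeft
  let g₂ : A →ₐ[k] A ⊗[B] A :=
    (Algebra.TensorProduct.includeRight : A →ₐ[B] A ⊗[B] A).restrictScalars k
  let g₂' : A →ₐ[k] A ⊗[B] A := g₂.comp (HopfAlgebra.antipodeAlgHom k A)
  have hcomp : g₁.comp (f : B →ₐ[k] A) = g₂.comp (f : B →ₐ[k] A) := by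
    ext b
    change (f b) ⊗ₜ[B] (1 : A) = (1 : A) ⊗ₜ[B] (f b)
    have h1 : f b = b • (1 : A) := by
      rw [Algebra.smul_def, mul_one]
      rfl
    rw [h1, TensorProduct.smul_tmul]
  have hu : toConv g₁ * toConv g₂' = 1 := by
    apply WithConv.ofConv_injective
    ext a
    rw [eq_counit_of_comp_eq_counit f hker (toConv g₁ * toConv g₂').ofConv]
    · rfl
    intro b
    have h2 := AlgHom.convMul_comp_bialgHom_distrib (toConv g₁) (toConv g₂') f
    have h3 := AlgHom.convMul_comp_bialgHom_distrib (toConv g₂) (toConv g₂') f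
    rw [ofConv_toConv, ofConv_toConv] at h2 h3
    rw [hcomp, ← h3, mul_comp_antipode] at h2
    have h4 := congrArg (fun ψ => ψ b) h2
    simp only [AlgHom.comp_apply] at h4
    refine h4.trans ?_
    change algebraMap k (A ⊗[B] A) (Coalgebra.counit (f b)) = _
    rw [CoalgHomClass.counit_comp_apply]
  have heq : g₁ = g₂ := by
    have h5 : toConv g₁ = toConv g₂ := by
      calc toConv g₁ = toConv g₁ * (toConv g₂' * toConv g₂) := by
            rw [comp_antipode_mul, mul_one]
        _ = (toConv g₁ * toConv g₂') * toConv g₂ := (mul_assoc _ _ _).symm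
        _ = toConv g₂ := by rw [hu, one_mul]
    exact WithConv.toConv_injective h5
  intro a
  have h6 := congrArg (fun ψ => ψ a) heq
  exact h6.symm

end Main

end Groth.Agent.Helper7.HopfMono
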